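import Cfsg.Agent.AltSubcon.Side
import Cfsg.Agent.ThompsonWielandt.Setup

/-!
The two kernels of a subconstituent with large image meet trivially.
-/

set_option autoImplicit false
set_option linter.style.haveILetI false

namespace CfsgLib.AltSubcon

open Subgroup CfsgLib.ThompsonWielandt

variable {G : Type*} [Group G] [Finite G]

/-- The standing hypotheses. -/
structure Setup (M N : Subgroup G) (g : G) : Prop where
  conjN : cj g M = N
  conjK : cj g (one M N) = one N M
  big : Big M N
  big' : Big N M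
  coatom : IsCoatom M
  corefree : M.normalCore = ⊥
  ne : M ≠ N
  hK : one M N ≠ ⊥

variable {M N : Subgroup G} {g : G}

theorem Setup.symm (h : Setup M N g) : Setup N M g⁻¹ := by
  refine ⟨?_, ?_, h.big', h.big, ?_, ?_, h.ne.symm, ?_⟩
  · rw [← h.conjN, cj_inv_cj]
  · rw [← h.conjK, cj_inv_cj]
  · rw [← h.conjN]; exact isCoatom_map_conj h.coatom g
  · rw [← h.conjN]; exact normalCore_map_conj h.corefree g
  · intro h0
    exact h.hK (by rw [← cj_inv_cj g (one M N), h.conjK, h0, cj, Subgroup.map_bot])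

theorem Setup.eq_bot (h : Setup M N g) {X : Subgroup G} (hX : X ≤ M) (h1 : M ≤ normalizer (X : Set G))
    (h2 : N ≤ normalizer (X : Set G)) : X = ⊥ := by
  have hN : ¬ N ≤ M := fun hle =>
    h.ne (eq_of_le_of_card_ge hle (by rw [← h.conjN, card_cj])).symm
  have htop : normalizer (X : Set G) = ⊤ := h.coatom.2 _ (lt_of_le_of_ne h1 fun e => hN (e ▸ h2))
  haveI : X.Normal := normalizer_eq_top_iff.1 htop
  exact le_bot_iff.1 (h.corefree ▸ normal_le_normalCore.2 hX)

theorem inf_le_normalizer (M N : Subgroup G) : M ⊓ N ≤ normalizer (one M N ⊓ one N M : Set G) := by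
  intro x hx
  exact (le_normalizer_inf ((inf_le_left : M ⊓ N ≤ M).trans (le_normalizer_one M N))
    ((inf_le_right : M ⊓ N ≤ N).trans (le_normalizer_one N M))) hx

theorem one_le_inf (M N : Subgroup G) : one M N ≤ M ⊓ N := core_le_left _ _

theorem one_le_inf' (M N : Subgroup G) : one N M ≤ M ⊓ N := (core_le_left _ _).trans (le_of_eq (inf_comm _ _))

theorem Setup.not_le (h : Setup M N g) : ¬ one M N ≤ one N M := fun hle => by
  have he := eq_of_le_of_card_ge hle (by rw [← h.conjK, card_cj])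
  exact h.hK (h.eq_bot (one_le M N) (le_normalizer_one M N) (he ▸ le_normalizer_one N M))

theorem Setup.good_other (h : Setup M N g) : Good M N (one N M) :=
  h.big.good_top (one_le_inf' M N) ((inf_le_right : M ⊓ N ≤ N).trans (le_normalizer_one N M)) h.symm.not_le

theorem cj_one_sub {M N : Subgroup G} {x : G} (hx : x ∈ M) : cj x (one M N) = one M N :=
  cj_mem_normalizer (le_normalizer_one M N hx)

theorem le_normalizer_cj_one {M N X : Subgroup G} {x : G} (hx : x ∈ M) (hX : one M N ≤ normalizer (X : Set G)) :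
    one M N ≤ normalizer (cj x X : Set G) :=
  (cj_one_sub hx).ge.trans (le_normalizer_cj hX)

theorem perfect_cj {R : Subgroup G} (x : G) (hR : ⁅R, R⁆ = R) : ⁅cj x R, cj x R⁆ = cj x R := by
  rw [← cj_commutator, hR]

/-- A perfect subgroup of one kernel lies in any sufficiently large normal subgroup times a conjugate of the
intersection. -/
theorem Setup.cover (h : Setup M N g) {W R : Subgroup G} (hR : ⁅R, R⁆ = R) (hRK : R ≤ one M N)
    (hW : W ≤ one M N) (nW : one M N ≤ normalizer (W : Set G)) {x : G} (hx : x ∈ M)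
    (hne : ¬ W ≤ cj x (one M N ⊓ one N M)) : R ≤ W ⊔ cj x (one M N ⊓ one N M) := by
  have hx' : x⁻¹ ∈ M := inv_mem hx
  set W' := cj x⁻¹ W with hW'
  have hW'K : W' ≤ one M N := (cj_mono _ hW).trans (cj_one_sub hx').le
  have hgood : Good N M W' := by
    refine h.symm.big.good h.symm.good_other (hW'K.trans ((one_le_inf M N).trans (le_of_eq (inf_comm _ _))))
      (le_normalizer_cj_one hx' nW) fun hle => hne ?_
    rw [← cj_inv_cj x⁻¹ W, inv_inv]
    exact cj_mono x (le_inf hW'K hle)
  set R' := cj x⁻¹ R with hR'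
  have hR'K : R' ≤ one M N := (cj_mono _ hRK).trans (cj_one_sub hx').le
  have h1 : R' ≤ W' ⊔ one N M :=
    h.big'.perfect_le hgood (hR'K.trans ((one_le_inf M N).trans (le_of_eq (inf_comm _ _)))) (perfect_cj _ hR)
  have h2 : R' ≤ W' ⊔ (one M N ⊓ one N M) := by
    intro r hr
    have hmem := h1 hr
    have hn : W' ≤ normalizer (one N M : Set G) :=
      hW'K.trans ((one_le_inf M N).trans (inf_le_right.trans (le_normalizer_one N M)))
    rw [← SetLike.mem_coe, coe_mul_of_left_le_normalizer_right _ _ hn] at hmem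
    obtain ⟨w, hw, l, hl, rfl⟩ := hmem
    exact mul_mem_sup hw (mem_inf.2 ⟨(mul_mem_cancel_left (hW'K hw)).1 (hR'K hr), hl⟩)
  have h3 := cj_mono x h2
  rw [cj_sup, hR', hW', cj_cj_inv, cj_cj_inv] at h3
  exact h3

theorem Setup.inf_eq_bot_of_solvable (h : Setup M N g) (hT : Group.IsSolvable (two M N)) :
    one M N ⊓ one N M = ⊥ := by
  classical
  haveI : Fintype G := Fintype.ofFinite G
  set K := one M N with hK
  set L := one N M with hL
  set N0 := K ⊓ L with hN0
  set T := two M N with hTdef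
  have hD : M ⊓ N ≤ normalizer (N0 : Set G) := inf_le_normalizer M N
  have hKD : K ≤ M ⊓ N := one_le_inf M N
  have hLD : L ≤ M ⊓ N := one_le_inf' M N
  have hN0K : N0 ≤ K := inf_le_left
  have hN0L : N0 ≤ L := inf_le_right
  have hKN0 : K ≤ normalizer (N0 : Set G) := hKD.trans hD
  have hLN0 : L ≤ normalizer (N0 : Set G) := hLD.trans hD
  have hS := h.big
  -- conjugates by elements of `N`
  have hLn : ∀ {n : G}, n ∈ N → cj n L = L := fun hn => cj_one_sub hn
  have hnN0 : ∀ {n : G}, n ∈ N → cj n N0 ≤ L := fun hn => (cj_mono _ hN0L).trans (hLn hn).le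
  have hnK : ∀ {n : G}, n ∈ N → cj n N0 ≤ K → cj n N0 = N0 := fun hn hle =>
    eq_of_le_of_card_ge (le_inf hle (hnN0 hn)) (card_cj _ _).ge
  have hngood : ∀ {n : G}, n ∈ N → ¬ cj n N0 ≤ K → Good M N (cj n N0) := fun hn hne =>
    h.big.good h.good_other ((hnN0 hn).trans hLD) (le_normalizer_cj_one hn hLN0) hne
  by_cases hMn : M ≤ normalizer (N0 : Set G)
  · -- normal in `M`
    have hN0T : N0 ≤ T := le_core (hN0K.trans (one_le M N)) le_rfl hMn
    haveI := hT
    haveI : Group.IsSolvable N0 := Group.isSolvable_of_isSolvable_injective (inclusion_injective hN0T)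
    refine h.eq_bot (hN0K.trans (one_le M N)) hMn fun n hn => mem_normalizer_of_cj_le ?_
    by_cases hle : cj n N0 ≤ K
    · exact (hnK hn hle).le
    · exfalso
      refine hS.not_solvable (hngood hn hle) ?_
      exact Group.isSolvable_of_surjective (f := (N0.equivMapOfInjective _ (MulAut.conj n).injective).toMonoidHom)
        (N0.equivMapOfInjective _ (MulAut.conj n).injective).surjective
  exfalso
  have hTK : T ≤ K := two_le_one M N
  have hnT : M ≤ normalizer (T : Set G) := le_normalizer_core _ _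
  by_cases hNn : N ≤ normalizer (N0 : Set G)
  · -- normal in `N`
    set W := cj g⁻¹ N0 with hW
    have hWK : W ≤ K := by rw [hW, cj_le_iff, inv_inv, h.conjK]; exact hN0L
    have hWn : M ≤ normalizer (W : Set G) := by
      have := le_normalizer_cj (g := g⁻¹) hNn
      rwa [← h.conjN, cj_inv_cj] at this
    obtain ⟨R, hRL, hRp, hRK⟩ := hS.exists_perfect h.good_other hLD
    have hR1 : cj g⁻¹ R ≤ K := by rw [cj_le_iff, inv_inv, h.conjK]; exact hRL
    have key : ∀ x ∈ M, cj g⁻¹ R ≤ W ⊔ K ⊓ cj x N0 := by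
      intro x hx
      rw [inf_eq_right.2 ((cj_mono x hN0K).trans (cj_one_sub hx).le)]
      refine h.cover (perfect_cj _ hRp) hR1 hWK ((one_le M N).trans hWn) hx fun hle => hMn ?_
      have e : W = cj x N0 := eq_of_le_of_card_ge hle (by rw [hW, card_cj, card_cj])
      have : N0 = W := by rw [← cj_inv_cj x N0, ← e, cj_mem_normalizer (hWn (inv_mem hx))]
      exact this ▸ hWn
    have h1 := le_sup_inf_finset (perfect_cj _ hRp) hR1 hWK ((one_le M N).trans hWn) (fun x : ↥M => cj (x : G) N0)
      (fun x => le_normalizer_cj_one x.2 hKN0) Finset.univ (fun x _ => key x x.2)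
    have h2 : (K ⊓ ⨅ x ∈ (Finset.univ : Finset ↥M), cj (x : G) N0) ≤ T := fun y hy => by
      simp only [mem_inf, Subgroup.mem_iInf, Finset.mem_univ, true_implies] at hy
      refine mem_core.2 ⟨one_le M N hy.1, fun m hm => ?_⟩
      have := mem_cj.1 (hy.2 ⟨m⁻¹, inv_mem hm⟩)
      simpa [hN0, hK, hL] using this
    have h3 : cj g⁻¹ R ≤ W := le_of_sup_solvable (perfect_cj _ hRp) hWK ((one_le M N).trans hWn) T hTK
      ((one_le M N).trans hnT) hT (h1.trans (sup_le_sup_left h2 _))
    have h4 := cj_mono g h3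
    rw [hW, cj_cj_inv, cj_cj_inv] at h4
    exact hRK (h4.trans hN0K)
  -- normal in neither
  obtain ⟨R, hRK, hRp, hRL⟩ := h.big'.exists_perfect h.symm.good_other (hKD.trans (le_of_eq (inf_comm _ _)))
  let s : Finset ↥M := Finset.univ.filter fun x => cj (x : G) N0 ≠ N0
  set C := K ⊓ ⨅ x ∈ s, cj (x : G) N0 with hC
  have hR : R ≤ N0 ⊔ C := by
    refine le_sup_inf_finset hRp hRK hN0K hKN0 (fun x : ↥M => cj (x : G) N0)
      (fun x => le_normalizer_cj_one x.2 hKN0) s fun x hx => ?_
    rw [inf_eq_right.2 ((cj_mono _ hN0K).trans (cj_one_sub x.2).le)]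
    refine h.cover hRp hRK hN0K hKN0 x.2 fun hle => ?_
    exact (Finset.mem_filter.1 hx).2 (eq_of_le_of_card_ge hle (card_cj _ _).le).symm
  have hCK : C ≤ K := inf_le_left
  have hCn : K ≤ normalizer (C : Set G) := by
    refine le_normalizer_inf le_normalizer fun y hy => ?_
    rw [mem_normalizer_iff]
    intro z
    simp only [Subgroup.mem_iInf]
    exact forall_congr' fun x => forall_congr' fun _ => mem_normalizer_iff.1 (le_normalizer_cj_one x.2 hKN0 hy) z
  have hCT : C ⊓ N0 ≤ T := fun y hy => by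
    simp only [hC, mem_inf, Subgroup.mem_iInf] at hy
    refine mem_core.2 ⟨one_le M N hy.1.1, fun m hm => ?_⟩
    show m * y * m⁻¹ ∈ N0
    by_cases hs : cj m⁻¹ N0 = N0
    · have : y ∈ cj m⁻¹ N0 := hs.symm ▸ (mem_inf.2 hy.2)
      simpa using mem_cj.1 this
    · have := mem_cj.1 (hy.1.2 ⟨m⁻¹, inv_mem hm⟩ (Finset.mem_filter.2 ⟨Finset.mem_univ _, hs⟩))
      simpa using this
  have hTn : ∀ {n : G}, n ∈ N → T ≤ cj n N0 := by
    intro n hn
    haveI := hT
    have hn' : n⁻¹ ∈ N := inv_mem hn
    have hTL : cj n⁻¹ T ≤ L := (cj_mono _ (core_le_left _ _ |>.trans inf_le_right)).trans (hLn hn').le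
    have hle : cj n⁻¹ T ≤ K := by
      by_contra hne
      refine hS.not_solvable (h.big.good h.good_other (hTL.trans hLD)
        (le_normalizer_cj_one hn' ((hLD.trans inf_le_left).trans hnT)) hne) ?_
      exact Group.isSolvable_of_surjective (f := (T.equivMapOfInjective _ (MulAut.conj n⁻¹).injective).toMonoidHom)
        (T.equivMapOfInjective _ (MulAut.conj n⁻¹).injective).surjective
    have := cj_mono n (le_inf hle hTL)
    rwa [cj_cj_inv] at this
  have hfix : ∀ {n : G}, n ∈ N → ∀ k ∈ R, cj k (cj n N0) = cj n N0 := by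
    intro n hn k hk
    set V := cj n N0 with hV
    by_cases hVe : V = N0
    · rw [hVe, cj_mem_normalizer (hKN0 (hRK hk))]
    have hVL : V ≤ L := hnN0 hn
    have hVn : L ≤ normalizer (V : Set G) := le_normalizer_cj_one hn hLN0
    set V0 := V ⊓ N0 with hV0
    have hkV0 : k ∈ normalizer (V0 : Set G) := by
      have hsup : N0 ⊔ C ≤ normalizer (V0 : Set G) := by
        refine sup_le (le_normalizer_inf (hN0L.trans hVn) le_normalizer) fun c hc => mem_normalizer_of_cj_le ?_
        intro y hy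
        rw [mem_cj] at hy
        obtain ⟨v, rfl⟩ : ∃ v, y = c * v * c⁻¹ := ⟨c⁻¹ * y * c, by group⟩
        simp only [inv_mul_cancel_left, inv_mul_cancel_right, mul_assoc, inv_mul_cancel, mul_one] at hy
        have hvN0 : v ∈ N0 := (mem_inf.1 hy).2
        have hcomm : c * v * c⁻¹ * v⁻¹ ∈ C ⊓ N0 := mem_inf.2 ⟨by
          have h1 := (mem_normalizer_iff.1 (hCn (hN0K hvN0)) c⁻¹).1 (inv_mem hc)
          have := mul_mem hc h1
          simpa [mul_assoc] using this,
          mul_mem ((mem_normalizer_iff.1 (hKN0 (hCK hc)) v).1 hvN0) (inv_mem hvN0)⟩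
        have hT0 : T ≤ V0 := le_inf (hTn hn) (by have := hTn (one_mem N); rwa [cj_one] at this)
        have := mul_mem (hT0 (hCT hcomm)) hy
        simpa [mul_assoc] using this
      exact hsup (hR hk)
    by_contra hkV
    set V' := cj k V with hV'
    have hkN : k ∈ N := (hRK.trans (hKD.trans inf_le_right)) hk
    have hV'L : V' ≤ L := (cj_mono _ hVL).trans (hLn hkN).le
    have e0 : V' ⊓ N0 = V0 := by
      conv_lhs => rw [← cj_mem_normalizer (hKN0 (hRK hk)), hV', ← cj_inf]
      exact cj_mem_normalizer hkV0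
    have hn' : n⁻¹ ∈ N := inv_mem hn
    have hV'eq : cj n⁻¹ V' = cj (n⁻¹ * k * n) N0 := by rw [hV', hV, cj_cj, cj_cj, mul_assoc]
    have g1 : Good M N (cj n⁻¹ V') := by
      rw [hV'eq]
      refine hngood (mul_mem (mul_mem hn' hkN) hn) fun hle => hkV ?_
      have := hnK (mul_mem (mul_mem hn' hkN) hn) hle
      rw [← hV'eq] at this
      have := congrArg (cj n) this
      rwa [cj_cj_inv] at this
    have g2 : Good M N (cj n⁻¹ N0) := hngood hn' fun hle => hVe (by
      have := congrArg (cj n) (hnK hn' hle)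
      rw [cj_cj_inv] at this
      exact this.symm)
    refine hS.not_commutator g1 g2 (((cj_mono _ hV'L).trans (hLn hn').le).trans hLD) ((hnN0 hn').trans hLD) ?_
    rw [← cj_commutator, cj_le_iff, inv_inv]
    refine le_trans ?_ (show V ≤ cj n K from cj_mono n hN0K)
    refine le_trans ?_ (inf_le_left : V ⊓ N0 ≤ V)
    rw [← hV0, ← e0, commutator_le]
    intro a ha b hb
    rw [commutatorElement_def]
    refine mem_inf.2 ⟨?_, ?_⟩
    · rw [mul_assoc, mul_assoc, ← mul_assoc b]
      exact mul_mem ha ((mem_normalizer_iff.1 (le_normalizer_cj_one hn hLN0 |> fun _ =>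
        ((hN0L.trans ((hLn hkN).ge.trans (le_normalizer_cj (g := k) hVn))) hb)) _).1 (inv_mem ha))
    · exact mul_mem ((mem_normalizer_iff.1 ((hV'L.trans hLN0) ha) _).1 hb) (inv_mem hb)
  -- a subgroup of `N` normalising the intersection
  set Z := normalizer (N0 : Set G) ⊓ N with hZ
  have hRcore : R ≤ core Z N := fun k hk => by
    refine mem_core.2 ⟨(hRK.trans (hKD.trans inf_le_right)) hk, fun n hn => ?_⟩
    refine mem_inf.2 ⟨mem_normalizer_of_cj ?_, mul_mem (mul_mem hn ((hRK.trans (hKD.trans inf_le_right)) hk)) (inv_mem hn)⟩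
    have := congrArg (cj n) (hfix (inv_mem hn) k hk)
    rwa [cj_cj, cj_cj, cj_cj, mul_inv_cancel, cj_one] at this
  haveI : Fintype (Pt N M) := Fintype.ofFinite _
  set f := MulAction.toPermHom ↥N (Pt N M) with hf
  have hker : f.ker = (one N M).subgroupOf N := by
    rw [hf, ← normalCore_eq_ker]
    ext x
    exact ⟨fun hx => ⟨x, hx, rfl⟩, fun ⟨y, hy, e⟩ => (Subtype.ext e : y = x) ▸ hy⟩
  have h6 : 5 ≤ Nat.card (Pt N M) := by have := h.big'.six; show 5 ≤ ((N ⊓ M).subgroupOf N).index; omega
  have hrange : alternatingGroup (Pt N M) ≤ f.range := by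
    refine alt_le_of_card ?_
    rw [Nat.card_perm, ← index_ker, hker]
    exact h.big'.big
  set Q := ((core Z N).subgroupOf N).map f with hQ
  have hQalt : alternatingGroup (Pt N M) ≤ Q := by
    refine alt_le_of_normalized h6 (fun h0 => hRL ?_) (hrange.trans ?_)
    · rw [hQ, Subgroup.map_eq_bot_iff, hker] at h0
      exact fun r hr => h0 (show (⟨r, core_le _ _ (hRcore hr)⟩ : ↥N) ∈ (core Z N).subgroupOf N from hRcore hr)
    · haveI : ((core Z N).subgroupOf N).Normal :=
        (normal_subgroupOf_iff_le_normalizer (core_le _ _)).2 (le_normalizer_core _ _)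
      rw [MonoidHom.range_eq_map, hQ]
      refine (map_mono ?_).trans (le_normalizer_map _)
      rw [normalizer_eq_top]
  refine hNn fun n hn => ?_
  have htr := alternatingGroup.isPretransitive_of_three_le_card (Pt N M) (by omega)
  obtain ⟨⟨a, ha⟩, hav⟩ := htr.exists_smul_eq ((1 : ↥N) : Pt N M) ((⟨n, hn⟩ : ↥N) : Pt N M)
  obtain ⟨z, hz, rfl⟩ := hQalt ha
  have hzn : (((z * 1 : ↥N)) : Pt N M) = ((⟨n, hn⟩ : ↥N) : Pt N M) := hav
  rw [QuotientGroup.eq, mul_one] at hzn
  have hzZ : (z : G) ∈ normalizer (N0 : Set G) := (mem_inf.1 (core_le_left _ _ hz)).1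
  have hd : (z : G)⁻¹ * n ∈ normalizer (N0 : Set G) := hD (inf_comm N M ▸ hzn)
  simpa using mul_mem hzZ hd

/-- The kernels meet trivially. -/
theorem Setup.inf_eq_bot (h : Setup M N g) : one M N ⊓ one N M = ⊥ := by
  by_cases hT : Group.IsSolvable (two M N)
  · exact h.inf_eq_bot_of_solvable hT
  by_cases hT' : Group.IsSolvable (two N M)
  · rw [inf_comm]; exact h.symm.inf_eq_bot_of_solvable hT'
  exfalso
  have h1 : two M N ≠ ⊥ := fun e => hT (by rw [e]; infer_instance)
  have h2 : two N M ≠ ⊥ := fun e => hT' (by rw [e]; infer_instance)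
  obtain ⟨p, hp, hp1, -⟩ := main_conj h.coatom h.corefree g h.conjN.symm h.ne h1 h2
  haveI := Fact.mk hp
  haveI := hp1.isNilpotent
  exact hT inferInstance

end CfsgLib.AltSubcon
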