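import Cfsg.Agent.AltSubcon.Inter

/-!
A kernel of a subconstituent has no large simple section; the two kernels are conjugate.
-/

set_option autoImplicit false
set_option linter.style.haveILetI false

namespace CfsgLib.AltSubcon

open Subgroup CfsgLib.ThompsonWielandt

variable {G : Type*} [Group G]

theorem cj_one_eq {M N : Subgroup G} (x : G) : cj x (one M N) = one (cj x M) (cj x N) := by
  ext y
  rw [mem_cj, ThompsonWielandt.one, ThompsonWielandt.one, mem_core, mem_core, mem_cj, ← cj_inf]
  refine and_congr_right fun _ => ⟨fun h m hm => ?_, fun h m hm => ?_⟩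
  · rw [mem_cj] at hm ⊢
    simpa [mul_assoc] using h _ hm
  · simpa [mem_cj, mul_assoc] using h (x * m * x⁻¹) (mem_cj.2 (by simpa [mul_assoc] using hm))

variable [Finite G]

theorem onto_inf {Y₀ U A V : Subgroup G} {Q : Type*} [Group Q] [Finite Q] [IsSimpleGroup Q] (f : ↥Y₀ →* Q)
    (hUA : U ≤ A) (hA : A ≤ normalizer (V : Set G)) (hidx : V.relIndex A < Nat.card Q)
    (h : (U.subgroupOf Y₀).map f = ⊤) : ((U ⊓ V).subgroupOf Y₀).map f = ⊤ := by
  set U' := U.subgroupOf Y₀
  set V' := (U ⊓ V).subgroupOf Y₀
  have hn : U' ≤ normalizer (V' : Set ↥Y₀) := fun x hx => by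
    rw [mem_normalizer_iff]
    intro y
    exact mem_normalizer_iff.1
      (le_normalizer_inf le_normalizer (hUA.trans hA) (show (x : G) ∈ U from hx)) y
  haveI : (V'.map f).Normal := by
    rw [← normalizer_eq_top_iff, eq_top_iff, ← h]
    exact (map_mono hn).trans (le_normalizer_map f)
  rcases IsSimpleGroup.eq_bot_or_eq_top_of_normal (V'.map f) inferInstance with hb | ht
  · exfalso
    let φ := f.comp U'.subtype
    have hr : φ.range = ⊤ := by rw [MonoidHom.range_comp, range_subtype]; exact h
    have h1 : Nat.card Q = φ.ker.index := by rw [index_ker, hr, Nat.card_congr Subgroup.topEquiv.toEquiv]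
    have h2 : V'.subgroupOf U' ≤ φ.ker := fun x hx => by
      rw [Subgroup.map_eq_bot_iff] at hb
      exact hb hx
    have h3 : φ.ker.index ≤ V'.relIndex U' := Nat.le_of_dvd (Nat.pos_of_ne_zero (index_ne_zero_of_finite))
      (index_dvd_of_le h2)
    have h4 : V'.relIndex U' ≤ V.relIndex A := by
      have e : V'.relIndex U' = V.relIndex (U ⊓ Y₀) := by
        show ((U ⊓ V).comap Y₀.subtype).relIndex U' = _
        rw [relIndex_comap, subgroupOf_map_subtype]
        rw [← inf_relIndex_right (U ⊓ V), ← inf_relIndex_right V]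
        congr 1
        exact le_antisymm (le_inf (inf_le_left.trans inf_le_right) inf_le_right)
          (le_inf (le_inf (inf_le_right.trans inf_le_left) inf_le_left) inf_le_right)
      rw [e]
      exact relIndex_le_of_le_right (inf_le_left.trans hUA) (index_ne_zero_of_finite (H := (V).subgroupOf (A)))
    omega
  · exact ht

/-- No large simple group is a section of a kernel. -/
theorem not_onto {M N : Subgroup G} (hM : IsCoatom M) (hc : M.normalCore = ⊥) (hNM : ¬ N ≤ M) {Q : Type*} [Group Q]
    [Finite Q] [IsSimpleGroup Q] (hi : (one M N).relIndex (M ⊓ N) < Nat.card Q)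
    (hi' : (one N M).relIndex (N ⊓ M) < Nat.card Q) {Y₀ : Subgroup G} (f : ↥Y₀ →* Q) {U : Subgroup G}
    (hU : U ≤ one M N) : (U.subgroupOf Y₀).map f ≠ ⊤ := by
  classical
  intro h
  haveI : Fintype G := Fintype.ofFinite G
  set K := one M N
  set L := one N M
  let P : G → Prop := fun x => ∀ U : Subgroup G, U ≤ K → (U.subgroupOf Y₀).map f = ⊤ →
    ((U ⊓ cj x K).subgroupOf Y₀).map f = ⊤
  have hrel : ∀ (x : G) (A B : Subgroup G), (cj x A).relIndex (cj x B) = A.relIndex B := fun x A B =>
    relIndex_map_map_of_injective _ _ (MulAut.conj x).injective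
  have hKD : M ⊓ N ≤ normalizer (K : Set G) := inf_le_left.trans (le_normalizer_one M N)
  have hLD : N ⊓ M ≤ normalizer (L : Set G) := inf_le_left.trans (le_normalizer_one N M)
  have hN : ∀ x, P x → ∀ n ∈ N, P (x * n) := by
    intro x hx n hn U hU hU'
    have h1 := hx U hU hU'
    have h2 := onto_inf f (A := cj x (N ⊓ M)) (V := cj x L)
      (inf_le_right.trans (cj_mono x ((one_le_inf M N).trans (le_of_eq (inf_comm _ _))))) (le_normalizer_cj hLD)
      (by rwa [hrel]) h1
    have e : cj x L = cj (x * n) L := by rw [← cj_cj, cj_one_sub hn]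
    have h3 := onto_inf f (A := cj (x * n) (M ⊓ N)) (V := cj (x * n) K)
      (inf_le_right.trans (e.le.trans (cj_mono _ (one_le_inf' M N)))) (le_normalizer_cj hKD) (by rwa [hrel]) h2
    refine eq_top_iff.2 (h3.ge.trans (map_mono fun y hy => ?_))
    exact mem_inf.2 ⟨(mem_inf.1 (mem_inf.1 (mem_inf.1 hy).1).1).1, (mem_inf.1 hy).2⟩
  have hMm : ∀ x, P x → ∀ m ∈ M, P (x * m) := by
    intro x hx m hm U hU hU'
    rw [← cj_cj, cj_one_sub hm]
    exact hx U hU hU'
  have htop : closure ((M : Set G) ∪ N) = ⊤ := by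
    rw [Subgroup.closure_union, closure_eq, closure_eq]
    refine hM.2 _ (lt_of_le_of_ne le_sup_left fun e => hNM ?_)
    exact (le_sup_right.trans e.ge)
  have hall : ∀ x, P x := by
    intro x
    have hx : x ∈ closure ((M : Set G) ∪ N) := htop ▸ mem_top x
    induction hx using closure_induction_right with
    | one =>
      intro U hU hU'
      rwa [cj_one, inf_eq_left.2 hU]
    | mul_right x hx y hy ih =>
      rcases hy with hy | hy
      · exact hMm x ih y hy
      · exact hN x ih y hy
    | mul_inv_cancel x hx y hy ih =>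
      rcases hy with hy | hy
      · exact hMm x ih _ (inv_mem hy)
      · exact hN x ih _ (inv_mem hy)
  have hfin : ∀ s : Finset G, ((U ⊓ ⨅ x ∈ s, cj x K).subgroupOf Y₀).map f = ⊤ := by
    intro s
    induction s using Finset.induction_on with
    | empty => simpa using h
    | insert a t ha ih =>
      have := hall a _ (inf_le_left.trans hU) ih
      rw [Finset.iInf_insert, inf_comm (cj a K), ← inf_assoc]
      exact this
  have hbot : (U ⊓ ⨅ x ∈ (Finset.univ : Finset G), cj x K) = ⊥ := by
    refine le_bot_iff.1 (inf_le_right.trans (hc ▸ fun y hy => ?_))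
    intro b
    simp only [Subgroup.mem_iInf, Finset.mem_univ, true_implies, mem_cj] at hy
    exact one_le M N (by simpa using hy b⁻¹)
  have := hfin Finset.univ
  rw [hbot, bot_subgroupOf, Subgroup.map_bot] at this
  exact bot_ne_top this

/-- The kernel on the other side is the conjugate kernel. -/
theorem cj_one_of_big {M N : Subgroup G} (g : G) (hg : cj g M = N) (hM : IsCoatom M) (hc : M.normalCore = ⊥)
    (hne : M ≠ N) (hb : Big M N) : cj g (one M N) = one N M := by
  classical
  have hb' : Big N (cj g N) := by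
    have e1 : ((N ⊓ cj g N).subgroupOf N).index = ((M ⊓ N).subgroupOf M).index := by
      show (N ⊓ cj g N).relIndex N = (M ⊓ N).relIndex M
      calc (N ⊓ cj g N).relIndex N = (cj g (M ⊓ N)).relIndex (cj g M) := by rw [cj_inf, hg]
        _ = _ := relIndex_map_map_of_injective _ _ (MulAut.conj g).injective
    have e2 : (one N (cj g N)).relIndex N = (one M N).relIndex M := by
      calc (one N (cj g N)).relIndex N = (cj g (one M N)).relIndex (cj g M) := by rw [cj_one_eq, hg]
        _ = _ := relIndex_map_map_of_injective _ _ (MulAut.conj g).injective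
    exact ⟨e1 ▸ hb.six, by rw [e1, e2]; exact hb.big⟩
  have hd : ((N ⊓ M).subgroupOf N).index = ((N ⊓ cj g N).subgroupOf N).index := by
    have h1 := ((N ⊓ M).subgroupOf N).card_mul_index
    have h2 := ((N ⊓ cj g N).subgroupOf N).card_mul_index
    have h3 : Nat.card ((N ⊓ cj g N).subgroupOf N) = Nat.card ((N ⊓ M).subgroupOf N) := by
      rw [Nat.card_congr (subgroupOfEquivOfLe inf_le_left).toEquiv,
        Nat.card_congr (subgroupOfEquivOfLe inf_le_left).toEquiv, show N ⊓ cj g N = cj g (M ⊓ N) by rw [cj_inf, hg],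
        card_cj, inf_comm]
    rw [← h2, h3] at h1
    exact Nat.eq_of_mul_eq_mul_left Nat.card_pos h1
  haveI : Fintype (Pt N (cj g N)) := Fintype.ofFinite _
  set f := MulAction.toPermHom ↥N (Pt N (cj g N)) with hf
  have hker : f.ker = (one N (cj g N)).subgroupOf N := by
    rw [hf, ← normalCore_eq_ker]
    ext x
    exact ⟨fun hx => ⟨x, hx, rfl⟩, fun ⟨y, hy, e⟩ => (Subtype.ext e : y = x) ▸ hy⟩
  have hcard : Nat.card (Pt N (cj g N)) = ((N ⊓ cj g N).subgroupOf N).index := rfl
  have h5 : 5 ≤ Nat.card (Pt N (cj g N)) := by have := hb'.six; omega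
  have hrange : alternatingGroup (Pt N (cj g N)) ≤ f.range := by
    refine alt_le_of_card ?_
    rw [Nat.card_perm, ← index_ker, hker]
    exact hb'.big
  haveI := alternatingGroup.isSimpleGroup h5
  haveI : Nontrivial (Pt N (cj g N)) := by rw [← Finite.one_lt_card_iff_nontrivial]; omega
  set Q := alternatingGroup (Pt N (cj g N)) with hQdef
  set d := ((N ⊓ cj g N).subgroupOf N).index with hddef
  have hQ : 2 * Nat.card Q = d.factorial := by
    rw [← hcard, ← Nat.card_perm (α := Pt N (cj g N))]
    exact two_mul_nat_card_alternatingGroup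
  have hsmall : (d - 1).factorial < Nat.card Q := by
    have h1 : d * (d - 1).factorial = d.factorial := Nat.mul_factorial_pred (by omega)
    have h2 : 6 * (d - 1).factorial ≤ d * (d - 1).factorial := Nat.mul_le_mul_right _ hb'.six
    have := Nat.factorial_pos (d - 1)
    omega
  have hi : (one M N).relIndex (M ⊓ N) < Nat.card Q := by
    refine lt_of_le_of_lt ((relIndex_one_le M N).trans (le_of_eq ?_)) hsmall
    rw [hddef]
    congr 2
    show (M ⊓ N).relIndex M = (N ⊓ cj g N).relIndex N
    calc _ = (cj g (M ⊓ N)).relIndex (cj g M) := (relIndex_map_map_of_injective _ _ (MulAut.conj g).injective).symm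
      _ = _ := by rw [cj_inf, hg]
  have hi' : (one N M).relIndex (N ⊓ M) < Nat.card Q :=
    lt_of_le_of_lt ((relIndex_one_le N M).trans (le_of_eq (by rw [hd]))) hsmall
  have hNM : ¬ N ≤ M := fun hle =>
    hne (eq_of_le_of_card_ge hle (by rw [← hg, card_cj])).symm
  set D' := (N ⊓ M).subgroupOf N with hD'
  have hnotle : ¬ Q ≤ D'.map f := by
    intro hle
    set Y' := D' ⊓ Q.comap f with hY'
    set Y₀ := Y'.map N.subtype with hY₀
    have hY0D : Y₀ ≤ M ⊓ N := by
      rintro _ ⟨y, hy, rfl⟩
      exact inf_comm N M ▸ hy.1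
    let e := (Y'.equivMapOfInjective N.subtype N.subtype_injective).symm
    let φ : ↥Y₀ →* ↥Q := (((f.comp Y'.subtype).codRestrict Q fun y => y.2.2)).comp e.toMonoidHom
    have hsurj : Function.Surjective φ := by
      rintro ⟨q, hq⟩
      obtain ⟨y, hy, rfl⟩ := hle hq
      obtain ⟨z, hz⟩ := e.surjective ⟨y, hy, hq⟩
      exact ⟨z, Subtype.ext (by show f (e z : ↥N) = f y; rw [hz])⟩
    have h0 : ((⊤ : Subgroup G).subgroupOf Y₀).map φ = ⊤ := by
      rw [top_subgroupOf, ← MonoidHom.range_eq_map, MonoidHom.range_eq_top.2 hsurj]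
    have h1 : (Y₀.subgroupOf Y₀).map φ = ⊤ := by rwa [subgroupOf_self, ← top_subgroupOf Y₀]
    have h2 := onto_inf φ hY0D (inf_le_left.trans (le_normalizer_one M N)) hi h1
    exact not_onto hM hc hNM hi hi' φ inf_le_right h2
  have hle : cj g (one M N) ≤ one N M := by
    rw [cj_one_eq, hg]
    have h1 : Nat.card (Pt N (cj g N)) ≤ (D'.map f).relIndex Q := by
      by_contra h
      exact hnotle (alt_le_of_relIndex h5 (not_le.1 h))
    have h2 : (D' ⊔ f.ker).index = (D'.map f).relIndex f.range := by
      rw [← index_comap, comap_map_eq]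
    have h3 : (D'.map f).relIndex Q ≤ (D'.map f).relIndex f.range :=
      relIndex_le_of_le_right hrange (index_ne_zero_of_finite (H := (D'.map f).subgroupOf (f.range)))
    have h4 : f.ker ≤ D' := by
      by_contra hnot
      have hlt : D' < D' ⊔ f.ker := lt_of_le_of_ne le_sup_left fun e => hnot (e ▸ le_sup_right)
      have := index_strictAnti hlt
      rw [h2] at this
      rw [hcard] at h1
      omega
    rw [hker] at h4
    refine le_one (one_le N _) (fun x hx => ?_) (le_normalizer_one _ _)
    exact (mem_inf.1 (h4 (show (⟨x, one_le N _ hx⟩ : ↥N) ∈ (one N (cj g N)).subgroupOf N from hx))).2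
  refine le_antisymm hle ?_
  rw [cj_one_eq, hg] at hle ⊢
  by_contra hnle
  have hQle : Q ≤ ((one N M).subgroupOf N).map f := by
    refine alt_le_of_normalized h5 (fun h0 => hnle ?_) (hrange.trans ?_)
    · rw [Subgroup.map_eq_bot_iff, hker] at h0
      exact fun r hr => h0 (show (⟨r, one_le _ _ hr⟩ : ↥N) ∈ (one N M).subgroupOf N from hr)
    · haveI : ((one N M).subgroupOf N).Normal :=
        (normal_subgroupOf_iff_le_normalizer (one_le _ _)).2 (le_normalizer_one _ _)
      rw [MonoidHom.range_eq_map]
      refine (map_mono ?_).trans (le_normalizer_map _)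
      rw [normalizer_eq_top]
  have h1 : (((one N M).subgroupOf N).map f).relIndex f.range = (((one N M).subgroupOf N) ⊔ f.ker).index := by
    rw [← index_comap, comap_map_eq]
  have h2 : d ≤ (((one N M).subgroupOf N) ⊔ f.ker).index := by
    rw [← hd]
    refine Nat.le_of_dvd (Nat.pos_of_ne_zero index_ne_zero_of_finite) (index_dvd_of_le (sup_le (fun x hx => ?_) ?_))
    · exact mem_inf.2 ⟨x.2, (one_le_inf' M N hx).1⟩
    · rw [hker]; exact fun x hx => mem_inf.2 ⟨x.2, (one_le_inf' M N (hle hx)).1⟩
  have h3 : (((one N M).subgroupOf N).map f).relIndex f.range ≤ 2 := by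
    refine le_trans (Nat.le_of_dvd (Nat.pos_of_ne_zero (index_ne_zero_of_finite (H := (Q).subgroupOf (f.range))))
      (relIndex_dvd_of_le_left _ hQle)) ?_
    refine le_trans (Nat.le_of_dvd (Nat.pos_of_ne_zero index_ne_zero_of_finite) (relIndex_dvd_index_of_normal Q f.range)) ?_
    rw [alternatingGroup.index_eq_two]
  have := hb'.six
  omega

end CfsgLib.AltSubcon
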