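import Cfsg.Agent.AltSubcon.Kernels
import Cfsg.Agent.AltSubcon.Iso

/-!
The structure of a point stabiliser with an alternating or symmetric unfaithful subconstituent.
-/

set_option autoImplicit false
set_option linter.style.haveILetI false

namespace CfsgLib.AltSubcon

open Subgroup CfsgLib.ThompsonWielandt

variable {G : Type*} [Group G] [Finite G]

/-- The structure of the stabiliser. -/
theorem structure_cases {M N : Subgroup G} {g : G} (h : Setup M N g) {d : ℕ}
    (hd : ((M ⊓ N).subgroupOf M).index = d) {O : Type*} [Finite O] (hO : Nat.card O = d)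
    (F : ↥M →* Equiv.Perm O) (hker : F.ker = (one M N).subgroupOf M)
    (base : O)
    (hbase : ∀ m : ↥M, F m base = base ↔ (m : G) ∈ N) :
    (F.range.index = 2 ∧ Nonempty (↥M ≃* alternatingGroup (Fin d) × alternatingGroup (Fin (d - 1)))) ∨
    (F.range = ⊤ ∧
      (Nonempty (↥M ≃* Equiv.Perm (Fin d) × Equiv.Perm (Fin (d - 1))) ∨
       Nonempty (↥M ≃* ((Equiv.Perm.sign.comp (MonoidHom.fst (Equiv.Perm (Fin d)) (Equiv.Perm (Fin (d - 1))))) *
         (Equiv.Perm.sign.comp (MonoidHom.snd (Equiv.Perm (Fin d)) (Equiv.Perm (Fin (d - 1)))))).ker))) := by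
  classical
  haveI : Fintype O := Fintype.ofFinite O
  haveI : Fintype (Rest N M) := Fintype.ofFinite _
  set K := one M N with hK
  set L := one N M with hL
  have hKL : K ⊓ L = ⊥ := h.inf_eq_bot
  have hd6 : 6 ≤ d := hd ▸ h.big.six
  have h5 : 5 ≤ Nat.card O := by omega
  have hd' : ((N ⊓ M).subgroupOf N).index = d := by
    have h1 := ((N ⊓ M).subgroupOf N).card_mul_index
    have h2 := ((M ⊓ N).subgroupOf M).card_mul_index
    have h3 : Nat.card ((N ⊓ M).subgroupOf N) = Nat.card ((M ⊓ N).subgroupOf M) := by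
      rw [Nat.card_congr (subgroupOfEquivOfLe inf_le_left).toEquiv,
        Nat.card_congr (subgroupOfEquivOfLe inf_le_left).toEquiv, inf_comm]
    have h4 : Nat.card N = Nat.card M := by rw [← h.conjN, card_cj]
    rw [h3, h4, ← h2, hd] at h1
    exact Nat.eq_of_mul_eq_mul_left Nat.card_pos h1
  have hrest : Nat.card (Rest N M) = d - 1 := by have := card_rest N M; omega
  have hcardF : Nat.card F.range = K.relIndex M := by rw [← index_ker, hker]; rfl
  have haltF : alternatingGroup O ≤ F.range := by
    refine alt_le_of_card ?_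
    rw [Nat.card_perm, hcardF, hO, ← hd]
    exact h.big.big
  -- the centraliser of the kernel
  set C := M ⊓ centralizer (K : Set G) with hC
  have hCn : M ≤ normalizer (C : Set G) :=
    le_normalizer_inf le_normalizer ((le_normalizer_one M N).trans (fun x hx => by
      rw [mem_normalizer_iff]
      intro y
      rw [mem_centralizer_iff, mem_centralizer_iff]
      constructor
      · intro hy k hk
        have := hy (x⁻¹ * k * x) ((mem_normalizer_iff.1 hx (x⁻¹ * k * x)).2 (by simpa [mul_assoc] using hk))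
        calc k * (x * y * x⁻¹) = x * ((x⁻¹ * k * x) * y) * x⁻¹ := by group
          _ = x * (y * (x⁻¹ * k * x)) * x⁻¹ := by rw [this]
          _ = _ := by group
      · intro hy k hk
        have := hy (x * k * x⁻¹) ((mem_normalizer_iff.1 hx k).1 hk)
        calc k * y = x⁻¹ * ((x * k * x⁻¹) * (x * y * x⁻¹)) * x := by group
          _ = x⁻¹ * ((x * y * x⁻¹) * (x * k * x⁻¹)) * x := by rw [this]
          _ = _ := by group))
  have hKD : K ≤ N ⊓ M := (one_le_inf M N).trans (le_of_eq (inf_comm _ _))
  have hKn : M ⊓ N ≤ normalizer (K : Set G) := inf_le_left.trans (le_normalizer_one M N)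
  have hLn : M ⊓ N ≤ normalizer (L : Set G) := inf_le_right.trans (le_normalizer_one N M)
  have hLC : L ≤ C := by
    refine le_inf ((one_le_inf' M N).trans inf_le_left) fun l hl => mem_centralizer_iff.2 fun k hk => ?_
    have h1 : k * l * k⁻¹ * l⁻¹ ∈ K ⊓ L := mem_inf.2 ⟨by
      have := (mem_normalizer_iff.1 (hKn (one_le_inf' M N hl)) k⁻¹).1 (inv_mem hk)
      simpa [mul_assoc] using mul_mem hk this,
      mul_mem ((mem_normalizer_iff.1 (hLn (one_le_inf M N hk)) l).1 hl) (inv_mem hl)⟩
    rw [hKL, mem_bot, mul_inv_eq_one, mul_inv_eq_iff_eq_mul] at h1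
    exact h1
  have hCD : C ⊓ N ≤ L := by
    by_contra hne
    have hle : C ⊓ N ≤ N ⊓ M := le_inf inf_le_right (inf_le_left.trans inf_le_left)
    have hgW := h.big'.good_top hle (le_normalizer_inf ((inf_le_right : N ⊓ M ≤ M).trans hCn)
      ((inf_le_left : N ⊓ M ≤ N).trans le_normalizer)) hne
    refine h.big'.not_commutator hgW h.symm.good_other hle hKD (commutator_le.2 fun x hx k hk => ?_)
    have hxk : x * k = k * x := ((mem_centralizer_iff.1 (mem_inf.1 (mem_inf.1 hx).1).2) k hk).symm
    rw [commutatorElement_eq_one_iff_mul_comm.2 hxk]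
    exact one_mem _
  have hCK : C ⊓ K = ⊥ := by
    refine le_bot_iff.1 (le_trans (le_inf inf_le_right ?_) hKL.le)
    exact (le_inf inf_le_left (inf_le_right.trans (hKD.trans inf_le_left))).trans hCD
  haveI hC' : (C.subgroupOf M).Normal := (normal_subgroupOf_iff_le_normalizer inf_le_left).2 hCn
  have hFC : alternatingGroup O ≤ (C.subgroupOf M).map F := by
    refine alt_le_of_normalized h5 (fun h0 => ?_) (haltF.trans ?_)
    · rw [Subgroup.map_eq_bot_iff, hker] at h0
      refine h.symm.hK (le_bot_iff.1 (hKL ▸ le_inf (fun l hl => ?_) le_rfl))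
      exact h0 (show (⟨l, ((one_le_inf' M N).trans inf_le_left) hl⟩ : ↥M) ∈ C.subgroupOf M from hLC hl)
    · rw [MonoidHom.range_eq_map]
      refine (map_mono ?_).trans (le_normalizer_map _)
      rw [normalizer_eq_top]
  -- the second action
  set q : ↥(N ⊓ M) →* ↥M ⧸ C.subgroupOf M :=
    (QuotientGroup.mk' _).comp (inclusion (inf_le_right : N ⊓ M ≤ M)) with hq
  have hqs : Function.Surjective q := by
    intro z
    obtain ⟨m, rfl⟩ := QuotientGroup.mk_surjective z
    haveI : Nonempty O := ⟨base⟩
    obtain ⟨a, ha, hab⟩ : ∃ a ∈ alternatingGroup O, a base = F m base := by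
      obtain ⟨⟨a, ha⟩, hab⟩ :=
        (alternatingGroup.isPretransitive_of_three_le_card O (by omega)).exists_smul_eq base (F m base)
      exact ⟨a, ha, hab⟩
    obtain ⟨c, hc, rfl⟩ := hFC ha
    have hfix : F (c⁻¹ * m) base = base := by
      rw [map_mul, map_inv, Equiv.Perm.mul_apply, ← hab]; simp
    refine ⟨⟨_, mem_inf.2 ⟨(hbase _).1 hfix, (c⁻¹ * m).2⟩⟩, ?_⟩
    show (((c⁻¹ * m : ↥M)) : ↥M ⧸ C.subgroupOf M) = (m : ↥M ⧸ C.subgroupOf M)
    rw [QuotientGroup.eq]
    have : (c⁻¹ * m)⁻¹ * m = m⁻¹ * c * m := by group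
    rw [this]
    exact (Normal.mem_comm_iff hC').1 (by simpa using hc)
  have hqk : q.ker ≤ (restHom N M).ker := fun x hx => by
    rw [MonoidHom.mem_ker, hq, MonoidHom.comp_apply, QuotientGroup.mk'_apply, QuotientGroup.eq_one_iff] at hx
    exact mem_ker_restHom.2 (hCD (mem_inf.2 ⟨hx, x.2.1⟩))
  set P : ↥M →* Equiv.Perm (Rest N M) :=
    (q.liftOfSurjective hqs ⟨restHom N M, hqk⟩).comp (QuotientGroup.mk' _) with hP
  have hPD : ∀ x : ↥(N ⊓ M), P (inclusion inf_le_right x) = restHom N M x := fun x => by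
    show (q.liftOfSurjective hqs ⟨restHom N M, hqk⟩) (q x) = restHom N M x
    rw [MonoidHom.liftOfRightInverse_comp_apply]
  have hPC : ∀ c : ↥M, (c : G) ∈ C → P c = 1 := fun c hc => by
    rw [hP, MonoidHom.comp_apply, QuotientGroup.mk'_apply, (QuotientGroup.eq_one_iff c).2 hc, map_one]
  have hPeq : ∀ m : ↥M, ∃ x : ↥(N ⊓ M), P m = restHom N M x ∧ (inclusion inf_le_right x)⁻¹ * m ∈ C.subgroupOf M := by
    intro m
    obtain ⟨x, hx⟩ := hqs (m : ↥M ⧸ C.subgroupOf M)
    refine ⟨x, ?_, QuotientGroup.eq.1 hx⟩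
    rw [← hPD x, hP, MonoidHom.comp_apply, MonoidHom.comp_apply]
    exact congrArg _ hx.symm
  have hrangeP : P.range = (restHom N M).range := by
    refine le_antisymm ?_ ?_
    · rintro _ ⟨m, rfl⟩
      obtain ⟨x, hx, -⟩ := hPeq m
      exact ⟨x, hx.symm⟩
    · rintro _ ⟨x, rfl⟩
      exact ⟨_, hPD x⟩
  have hcard : Nat.card F.range = d * Nat.card P.range := by
    rw [hrangeP, hcardF]
    have h1 := card_mul_card_one N M
    have h2 := ((M ⊓ N).subgroupOf M).card_mul_index
    rw [Nat.card_congr (subgroupOfEquivOfLe inf_le_left).toEquiv, hd] at h2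
    have h3 : Nat.card K * K.relIndex M = Nat.card M := by
      rw [relIndex, ← Nat.card_congr (subgroupOfEquivOfLe (one_le M N)).toEquiv]
      exact card_mul_index _
    have h4 : Nat.card L = Nat.card K := by rw [hL, ← h.conjK, card_cj]
    rw [← hL, h4, show Nat.card ↥(N ⊓ M) = Nat.card ↥(M ⊓ N) by rw [inf_comm]] at h1
    rw [← h2, ← h1] at h3
    refine Nat.eq_of_mul_eq_mul_left (Nat.card_pos (α := K)) (h3.trans ?_)
    ring
  have hinj : ∀ m, F m = 1 → P m = 1 → m = 1 := by
    intro m h1 h2
    have hmK : (m : G) ∈ K := by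
      have : m ∈ F.ker := h1
      rwa [hker] at this
    have hmD : (m : G) ∈ N ⊓ M := hKD hmK
    have h3 : restHom N M ⟨m, hmD⟩ = 1 := (hPD ⟨m, hmD⟩).symm.trans h2
    have h4 : (m : G) ∈ K ⊓ L := mem_inf.2 ⟨hmK, mem_ker_restHom.1 h3⟩
    rw [hKL, mem_bot] at h4
    exact Subtype.ext h4
  let eO : O ≃ Fin d := Fintype.equivFinOfCardEq (by rw [← Nat.card_eq_fintype_card, hO])
  let eR : Rest N M ≃ Fin (d - 1) := Fintype.equivFinOfCardEq (by rw [← Nat.card_eq_fintype_card, hrest])
  let F' : ↥M →* Equiv.Perm (Fin d) := eO.permCongrHom.toMonoidHom.comp F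
  let P' : ↥M →* Equiv.Perm (Fin (d - 1)) := eR.permCongrHom.toMonoidHom.comp P
  have hsF : ∀ m, Equiv.Perm.sign (F' m) = Equiv.Perm.sign (F m) := fun m => Equiv.Perm.sign_permCongr eO (F m)
  have hsP : ∀ m, Equiv.Perm.sign (P' m) = Equiv.Perm.sign (P m) := fun m => Equiv.Perm.sign_permCongr eR (P m)
  have hc := subdirect_cases F' P' (fun m h1 h2 => hinj m (eO.permCongrHom.injective (h1.trans (map_one _).symm))
    (eR.permCongrHom.injective (h2.trans (map_one _).symm))) (fun a ha => by
      obtain ⟨c, hc, hca⟩ := hFC (show eO.permCongrHom.symm a ∈ alternatingGroup O by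
        rw [Equiv.Perm.mem_alternatingGroup]
        exact (Equiv.Perm.sign_permCongr eO.symm a).trans ha)
      refine ⟨c, ?_, ?_⟩
      · show eO.permCongrHom (F c) = a
        rw [hca]; exact eO.permCongrHom.apply_symm_apply a
      · show eR.permCongrHom (P c) = 1
        rw [hPC c hc, map_one]) (fun b hb => by
      obtain ⟨x, hx, hxb⟩ := h.symm.good_other inferInstance inferInstance
        (show eR.permCongrHom.symm b ∈ alternatingGroup (Rest N M) by
          rw [Equiv.Perm.mem_alternatingGroup]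
          exact (Equiv.Perm.sign_permCongr eR.symm b).trans hb)
      refine ⟨inclusion inf_le_right x, ?_, ?_⟩
      · show eO.permCongrHom (F _) = 1
        have : inclusion inf_le_right x ∈ F.ker := by rw [hker]; exact hx
        rw [MonoidHom.mem_ker.1 this, map_one]
      · show eR.permCongrHom (P _) = b
        rw [hPD, hxb]; exact eR.permCongrHom.apply_symm_apply b)
  haveI : Nontrivial O := by rw [← Finite.one_lt_card_iff_nontrivial]; omega
  haveI : Nontrivial (Rest N M) := by rw [← Finite.one_lt_card_iff_nontrivial]; omega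
  have hAO : 2 * Nat.card (alternatingGroup O) = d.factorial := by
    rw [← hO, ← Nat.card_perm (α := O)]; exact two_mul_nat_card_alternatingGroup
  have hAR : 2 * Nat.card (alternatingGroup (Rest N M)) = (d - 1).factorial := by
    rw [← hrest, ← Nat.card_perm (α := Rest N M)]; exact two_mul_nat_card_alternatingGroup
  have haltP : alternatingGroup (Rest N M) ≤ P.range := hrangeP ▸ h.big'.alt_le_range
  have hfac : d * (d - 1).factorial = d.factorial := Nat.mul_factorial_pred (by omega)
  by_cases hev : ∀ m, Equiv.Perm.sign (F m) = 1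
  · left
    have heF : F.range = alternatingGroup O :=
      le_antisymm (by rintro _ ⟨m, rfl⟩; exact Equiv.Perm.mem_alternatingGroup.2 (hev m)) haltF
    have hPev : ∀ m, Equiv.Perm.sign (P m) = 1 := by
      have e : P.range = alternatingGroup (Rest N M) := by
        refine (eq_of_le_of_card_ge haltP ?_).symm
        rw [heF] at hcard
        refine Nat.le_of_mul_le_mul_left ?_ (show 0 < d * 2 by omega)
        calc d * 2 * Nat.card P.range = 2 * (d * Nat.card P.range) := by ring
          _ = d.factorial := by rw [← hcard, hAO]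
          _ = d * (2 * Nat.card (alternatingGroup (Rest N M))) := by rw [hAR, hfac]
          _ ≤ _ := le_of_eq (by ring)
      exact fun m => Equiv.Perm.mem_alternatingGroup.1 (e ▸ ⟨m, rfl⟩)
    refine ⟨by rw [heF, alternatingGroup.index_eq_two], hc.1 (fun m => (hsF m).trans (hev m)) fun m => (hsP m).trans (hPev m)⟩
  · right
    push Not at hev
    obtain ⟨m0, hm0⟩ := hev
    have hneg : Equiv.Perm.sign (F m0) = -1 := (Int.units_eq_one_or _).resolve_left hm0
    have heF : F.range = ⊤ := by
      refine eq_top_iff.2 fun x _ => ?_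
      rcases Int.units_eq_one_or (Equiv.Perm.sign x) with hx | hx
      · exact haltF (Equiv.Perm.mem_alternatingGroup.2 hx)
      · have : (F m0)⁻¹ * x ∈ F.range := haltF (Equiv.Perm.mem_alternatingGroup.2 (by
          rw [map_mul, map_inv, hneg, hx, inv_mul_cancel]))
        simpa using mul_mem (MonoidHom.mem_range.2 ⟨m0, rfl⟩ : F m0 ∈ F.range) this
    refine ⟨heF, hc.2 ⟨m0, (hsF m0).trans hneg⟩ ?_⟩
    by_contra hno
    push Not at hno
    have e : P.range ≤ alternatingGroup (Rest N M) := by
      rintro _ ⟨m, rfl⟩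
      refine Equiv.Perm.mem_alternatingGroup.2 ((Int.units_eq_one_or _).resolve_right fun hm => ?_)
      exact hno m ((hsP m).trans hm)
    have h1 := card_le_of_le e
    rw [heF, Nat.card_congr Subgroup.topEquiv.toEquiv, Nat.card_perm, hO] at hcard
    have h2 : d * Nat.card P.range ≤ d * Nat.card (alternatingGroup (Rest N M)) := Nat.mul_le_mul_left _ h1
    have h3 : 2 * (d * Nat.card (alternatingGroup (Rest N M))) = d.factorial := by
      rw [← hfac, ← hAR]; ring
    have := Nat.factorial_pos d
    omega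

end CfsgLib.AltSubcon
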