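import Cfsg.Agent.AltSubcon.Perm
import Cfsg.Agent.AltSubcon.Sub
import Cfsg.Agent.ThompsonWielandt.Basic

/-!
The action of a two-point stabiliser on the remaining points of a subconstituent.
-/

set_option autoImplicit false
set_option linter.style.haveILetI false

namespace CfsgLib.AltSubcon

open Subgroup CfsgLib.ThompsonWielandt

variable {G : Type*} [Group G]

theorem le_normalizer_one (M N : Subgroup G) : M ≤ normalizer (one M N : Set G) := le_normalizer_core _ _

/-- The cosets of the two-point stabiliser. -/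
abbrev Pt (M N : Subgroup G) := ↥M ⧸ (M ⊓ N).subgroupOf M

/-- The cosets apart from the trivial one. -/
abbrev Rest (M N : Subgroup G) := {q : Pt M N // q ≠ ((1 : ↥M) : Pt M N)}

theorem fix_base {M N : Subgroup G} (x : ↥(M ⊓ N)) :
    (inclusion (inf_le_left : M ⊓ N ≤ M) x) • ((1 : ↥M) : Pt M N) = ((1 : ↥M) : Pt M N) := by
  show (((inclusion (inf_le_left : M ⊓ N ≤ M) x) * 1 : ↥M) : Pt M N) = _
  rw [QuotientGroup.eq]
  simp only [mul_one, mem_subgroupOf, coe_mul, coe_inv, OneMemClass.coe_one]
  exact inv_mem x.2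

/-- The action of the two-point stabiliser on the remaining cosets. -/
noncomputable def restHom (M N : Subgroup G) : ↥(M ⊓ N) →* Equiv.Perm (Rest M N) where
  toFun x := (MulAction.toPermHom ↥M (Pt M N) (inclusion inf_le_left x)).subtypePerm fun q => by
    show (inclusion (inf_le_left : M ⊓ N ≤ M) x) • q ≠ _ ↔ q ≠ _
    refine not_congr ⟨fun h => ?_, fun h => by rw [h, fix_base]⟩
    exact smul_left_cancel (inclusion _ x) (h.trans (fix_base x).symm)
  map_one' := by ext q; simp
  map_mul' x y := by ext q; simp [mul_smul]; rfl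

theorem mem_ker_restHom {M N : Subgroup G} {x : ↥(M ⊓ N)} :
    x ∈ (restHom M N).ker ↔ (x : G) ∈ one M N := by
  have h1 : (x : G) ∈ one M N ↔ inclusion inf_le_left x ∈ ((M ⊓ N).subgroupOf M).normalCore := by
    constructor
    · rintro ⟨y, hy, hyx⟩
      have : y = inclusion inf_le_left x := Subtype.ext hyx
      exact this ▸ hy
    · exact fun h => ⟨_, h, rfl⟩
  rw [h1, normalCore_eq_ker, MonoidHom.mem_ker, MonoidHom.mem_ker]
  constructor
  · intro h
    ext q
    by_cases hq : q = ((1 : ↥M) : Pt M N)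
    · subst hq; simpa using fix_base x
    · exact congrArg Subtype.val (Equiv.Perm.ext_iff.1 h ⟨q, hq⟩)
  · intro h
    ext q
    exact Equiv.Perm.ext_iff.1 h q.1

/-- The image of a subgroup. -/
noncomputable def img (M N W : Subgroup G) : Subgroup (Equiv.Perm (Rest M N)) :=
  (W.subgroupOf (M ⊓ N)).map (restHom M N)

theorem img_mono {M N W V : Subgroup G} (h : W ≤ V) : img M N W ≤ img M N V :=
  map_mono fun _ hx => h hx

theorem img_eq_bot_iff {M N W : Subgroup G} (hW : W ≤ M ⊓ N) : img M N W = ⊥ ↔ W ≤ one M N := by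
  rw [img, Subgroup.map_eq_bot_iff]
  exact ⟨fun h x hx => mem_ker_restHom.1 (h (show (⟨x, hW hx⟩ : ↥(M ⊓ N)) ∈ W.subgroupOf _ from hx)),
    fun h x hx => mem_ker_restHom.2 (h hx)⟩

theorem le_sup_of_img_le {M N W V : Subgroup G} (hW : W ≤ M ⊓ N) (h : img M N W ≤ img M N V) :
    W ≤ V ⊔ one M N := fun x hx => by
  obtain ⟨v, hv, he⟩ := h (mem_map_of_mem _ (show (⟨x, hW hx⟩ : ↥(M ⊓ N)) ∈ W.subgroupOf _ from hx))
  have hk : v⁻¹ * ⟨x, hW hx⟩ ∈ (restHom M N).ker := by
    rw [MonoidHom.mem_ker, map_mul, map_inv, he, inv_mul_cancel]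
  have := mul_mem (mem_sup_left (T := one M N) (show (v : G) ∈ V from hv)) (mem_sup_right (mem_ker_restHom.1 hk))
  simpa [mul_assoc] using this

theorem img_commutator {M N W V : Subgroup G} (hW : W ≤ M ⊓ N) (hV : V ≤ M ⊓ N) :
    img M N ⁅W, V⁆ = ⁅img M N W, img M N V⁆ := by
  rw [img, img, img, ← map_commutator]
  congr 1
  apply map_injective (subtype_injective (M ⊓ N))
  rw [map_commutator, map_subgroupOf_eq_of_le hW, map_subgroupOf_eq_of_le hV, map_subgroupOf_eq_of_le]
  exact commutator_le.2 fun a ha b hb => by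
    rw [commutatorElement_def]
    exact mul_mem (mul_mem (mul_mem (hW ha) (hV hb)) (inv_mem (hW ha))) (inv_mem (hV hb))

theorem img_normalizer {M N X W : Subgroup G} (hX : X ≤ normalizer (W : Set G)) :
    img M N X ≤ normalizer (img M N W : Set (Equiv.Perm (Rest M N))) := by
  refine (map_mono ?_).trans (le_normalizer_map _)
  intro x hx
  rw [mem_normalizer_iff]
  intro y
  exact mem_normalizer_iff.1 (hX hx) y

variable [Finite G]

theorem card_rest (M N : Subgroup G) : Nat.card (Rest M N) + 1 = ((M ⊓ N).subgroupOf M).index := by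
  classical
  haveI : Fintype (Pt M N) := Fintype.ofFinite _
  show _ = Nat.card (Pt M N)
  rw [Nat.card_eq_fintype_card, Fintype.card_subtype_compl, Fintype.card_subtype_eq, Nat.card_eq_fintype_card]
  have : 0 < Fintype.card (Pt M N) := Fintype.card_pos
  omega

theorem card_mul_card_one (M N : Subgroup G) :
    Nat.card (restHom M N).range * Nat.card (one M N) = Nat.card ↥(M ⊓ N) := by
  have h := (restHom M N).ker.card_mul_index
  rw [index_ker] at h
  rw [mul_comm, ← h]
  congr 1
  refine Nat.card_congr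
    { toFun := fun x => ⟨⟨x.1, core_le_left _ _ x.2⟩, mem_ker_restHom.2 x.2⟩
      invFun := fun x => ⟨x.1.1, mem_ker_restHom.1 x.2⟩
      left_inv := fun _ => rfl
      right_inv := fun _ => rfl }

theorem relIndex_one_le (M N : Subgroup G) :
    (one M N).relIndex (M ⊓ N) ≤ (((M ⊓ N).subgroupOf M).index - 1).factorial := by
  have h1 : Nat.card (restHom M N).range ≤ Nat.card (Equiv.Perm (Rest M N)) :=
    Nat.card_le_card_of_injective _ Subtype.val_injective
  rw [Nat.card_perm] at h1
  have h2 : (one M N).relIndex (M ⊓ N) = Nat.card (restHom M N).range := by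
    rw [← index_ker, relIndex]
    congr 1
    ext x
    exact mem_ker_restHom.symm
  rw [h2, ← card_rest M N]
  simpa using h1

/-- The standing hypothesis for one side. -/
structure Big (M N : Subgroup G) : Prop where
  six : 6 ≤ ((M ⊓ N).subgroupOf M).index
  big : ((M ⊓ N).subgroupOf M).index.factorial ≤ 2 * (one M N).relIndex M

theorem Big.five {M N : Subgroup G} (h : Big M N) : 5 ≤ Nat.card (Rest M N) := by
  have := card_rest M N
  have := h.six
  omega

theorem Big.alt_le_range {M N : Subgroup G} (h : Big M N) [Fintype (Rest M N)] [DecidableEq (Rest M N)] :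
    alternatingGroup (Rest M N) ≤ (restHom M N).range := by
  refine alt_le_of_card ?_
  have h1 := card_mul_card_one M N
  have h2 := ((M ⊓ N).subgroupOf M).card_mul_index
  have hd := card_rest M N
  have hb := h.big
  rw [← hd, Nat.factorial_succ] at hb
  rw [Nat.card_perm]
  have e : Nat.card ((M ⊓ N).subgroupOf M) = Nat.card ↥(M ⊓ N) :=
    Nat.card_congr (subgroupOfEquivOfLe inf_le_left).toEquiv
  rw [e, ← h1, ← hd] at h2
  have h4 : Nat.card (one M N) * (one M N).relIndex M = Nat.card M := by
    rw [relIndex, ← Nat.card_congr (subgroupOfEquivOfLe (one_le M N)).toEquiv]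
    exact card_mul_index _
  have h5 : Nat.card (one M N) * ((Nat.card (Rest M N) + 1) * (Nat.card (Rest M N)).factorial) ≤
      Nat.card (one M N) * (2 * (one M N).relIndex M) := Nat.mul_le_mul_left _ hb
  have h6 : (Nat.card (Rest M N)).factorial * (Nat.card (one M N) * (Nat.card (Rest M N) + 1)) ≤
      (2 * Nat.card (restHom M N).range) * (Nat.card (one M N) * (Nat.card (Rest M N) + 1)) := by
    calc _ = Nat.card (one M N) * ((Nat.card (Rest M N) + 1) * (Nat.card (Rest M N)).factorial) := by ring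
      _ ≤ _ := h5
      _ = 2 * (Nat.card (one M N) * (one M N).relIndex M) := by ring
      _ = 2 * (Nat.card (restHom M N).range * Nat.card (one M N) * (Nat.card (Rest M N) + 1)) := by rw [h4, h2]
      _ = _ := by ring
  exact Nat.le_of_mul_le_mul_right h6 (Nat.mul_pos Nat.card_pos (Nat.succ_pos _))

/-- A subgroup whose image contains the alternating group. -/
def Good (M N X : Subgroup G) : Prop :=
  ∀ (_ : Fintype (Rest M N)) (_ : DecidableEq (Rest M N)), alternatingGroup (Rest M N) ≤ img M N X

/-- A normalised subgroup outside the kernel is good. -/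
theorem Big.good {M N W X : Subgroup G} (h : Big M N) (hX : Good M N X) (hW : W ≤ M ⊓ N)
    (hn : X ≤ normalizer (W : Set G)) (hne : ¬ W ≤ one M N) : Good M N W := fun _ _ =>
  alt_le_of_normalized h.five (fun h0 => hne ((img_eq_bot_iff hW).1 h0)) ((hX _ _).trans (img_normalizer hn))

theorem Big.good_top {M N W : Subgroup G} (h : Big M N) (hW : W ≤ M ⊓ N)
    (hn : M ⊓ N ≤ normalizer (W : Set G)) (hne : ¬ W ≤ one M N) : Good M N W := by
  refine h.good (X := M ⊓ N) (fun _ _ => ?_) hW hn hne
  refine h.alt_le_range.trans ?_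
  rw [MonoidHom.range_eq_map, img]
  exact map_mono fun x _ => x.2

theorem Big.perfect_le {M N W R : Subgroup G} (_h : Big M N) (hW : Good M N W) (hR : R ≤ M ⊓ N)
    (hp : ⁅R, R⁆ = R) : R ≤ W ⊔ one M N := by
  classical
  haveI : Fintype (Rest M N) := Fintype.ofFinite _
  refine le_sup_of_img_le hR (le_trans (perfect_le_alt ?_) (hW _ _))
  rw [← img_commutator hR hR, hp]

theorem Big.not_solvable {M N W : Subgroup G} (h : Big M N) (hW : Good M N W) : ¬ Group.IsSolvable W := fun hs => by
  classical
  haveI : Fintype (Rest M N) := Fintype.ofFinite _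
  haveI := hs
  haveI : Group.IsSolvable (W.subgroupOf (M ⊓ N)) :=
    Group.isSolvable_of_isSolvable_injective
      (f := ({ toFun := fun x => ⟨x.1.1, x.2⟩, map_one' := rfl, map_mul' := fun _ _ => rfl } : ↥(W.subgroupOf (M ⊓ N)) →* ↥W))
      (fun a b e => Subtype.ext (Subtype.ext (congrArg (fun z : ↥W => (z : G)) e)))
  exact alt_not_isSolvable h.five (hW _ _) (Group.isSolvable_of_surjective (MonoidHom.subgroupMap_surjective _ _))

theorem Big.not_commutator {M N W V : Subgroup G} (h : Big M N) (hW : Good M N W) (hV : Good M N V)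
    (hW' : W ≤ M ⊓ N) (hV' : V ≤ M ⊓ N) : ¬ ⁅W, V⁆ ≤ one M N := fun hle => by
  classical
  haveI : Fintype (Rest M N) := Fintype.ofFinite _
  have h0 : img M N ⁅W, V⁆ = ⊥ := le_bot_iff.1 <| by
    refine (img_mono hle).trans (le_bot_iff.2 ((img_eq_bot_iff (core_le_left _ _)).2 le_rfl))
  rw [img_commutator hW' hV'] at h0
  refine alt_not_comm (β := Rest M N) (by have := h.five; omega) fun a ha b hb => ?_
  have := commutator_mem_commutator (hW _ _ ha) (hV _ _ hb)
  rw [h0, mem_bot] at this
  exact commutatorElement_eq_one_iff_mul_comm.1 this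

/-- A good subgroup contains a perfect subgroup outside the kernel. -/
theorem Big.exists_perfect {M N X : Subgroup G} (h : Big M N) (hX : Good M N X) (hX' : X ≤ M ⊓ N) :
    ∃ R ≤ X, ⁅R, R⁆ = R ∧ ¬ R ≤ one M N := by
  classical
  haveI : Fintype (Rest M N) := Fintype.ofFinite _
  obtain ⟨R, ⟨hRX, hR⟩, hmin⟩ := Set.Finite.exists_minimal
    (s := {Y : Subgroup G | Y ≤ X ∧ alternatingGroup (Rest M N) ≤ img M N Y}) (Set.toFinite _) ⟨X, le_rfl, hX _ _⟩
  have hle : ⁅R, R⁆ ≤ R := commutator_le.2 fun a ha b hb => by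
    rw [commutatorElement_def]
    exact mul_mem (mul_mem (mul_mem ha hb) (inv_mem ha)) (inv_mem hb)
  refine ⟨R, hRX, le_antisymm hle (hmin ⟨hle.trans hRX, ?_⟩ hle), fun hk => ?_⟩
  · rw [img_commutator (hRX.trans hX') (hRX.trans hX')]
    exact (alt_le_commutator h.five).trans (commutator_mono hR hR)
  · rw [(img_eq_bot_iff (hRX.trans hX')).2 hk, le_bot_iff] at hR
    refine alt_not_comm (β := Rest M N) (by have := h.five; omega) fun a ha b _ => ?_
    rw [hR, mem_bot] at ha
    simp [ha]

end CfsgLib.AltSubcon
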